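import Mathlib

/-!
Counts of natural matrices with given margins, and their alternating sums: the elementary form of
the Pieri rule, giving triangularity with respect to dominance.
-/

set_option autoImplicit false

namespace CfsgLib.GLFlag.Pieri

open Finset

variable {n : ℕ}

/-- The predecessors of `γ` after removing `r` boxes. -/
def preds (r : ℕ) (γ : Fin n → ℕ) : Finset (Fin n → ℕ) :=
  (Fintype.piFinset fun i => range (γ i + 1)).filter fun γ' => ∑ i, γ' i + r = ∑ i, γ i

theorem mem_preds {r : ℕ} {γ γ' : Fin n → ℕ} :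
    γ' ∈ preds r γ ↔ (∀ i, γ' i ≤ γ i) ∧ ∑ i, γ' i + r = ∑ i, γ i := by
  simp [preds, Nat.lt_succ_iff]

/-- The signed indicator of the rearrangements of `0, 1, …, n - 1`. -/
def delta (γ : Fin n → ℕ) : ℤ :=
  ∑ κ : Equiv.Perm (Fin n), if γ = fun i => (κ i).val then (Equiv.Perm.sign κ : ℤ) else 0

/-- The alternating coefficient after multiplying by complete symmetric functions. -/
def alt : List ℕ → (Fin n → ℕ) → ℤ
  | [], γ => delta γ
  | r :: L, γ => ∑ γ' ∈ preds r γ, alt L γ'

/-- The coefficient of a product of complete symmetric functions. -/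
def ways : List ℕ → (Fin n → ℕ) → ℕ
  | [], α => if α = 0 then 1 else 0
  | r :: L, α => ∑ α' ∈ preds r α, ways L α'

theorem alt_comp (L : List ℕ) : ∀ (γ : Fin n → ℕ) (π : Equiv.Perm (Fin n)),
    alt L (γ ∘ π) = (Equiv.Perm.sign π : ℤ) * alt L γ := by
  induction L with
  | nil =>
    intro γ π
    show delta (γ ∘ π) = _ * delta γ
    unfold delta
    rw [Finset.mul_sum, ← Equiv.sum_comp (Equiv.mulRight π)]
    refine Finset.sum_congr rfl fun κ _ => ?_
    simp only [Equiv.coe_mulRight]
    have h : (γ ∘ π = fun i => ((κ * π) i).val) ↔ (γ = fun i => (κ i).val) := by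
      constructor
      · intro h
        funext i
        have := congrFun h (π.symm i)
        simpa using this
      · intro h
        rw [h]
        rfl
    simp only [h, map_mul, Units.val_mul, mul_ite, mul_zero]
    split_ifs <;> ring
  | cons r L ih =>
    intro γ π
    show ∑ γ' ∈ preds r (γ ∘ π), alt L γ' = _ * ∑ γ' ∈ preds r γ, alt L γ'
    rw [Finset.mul_sum]
    refine Finset.sum_nbij' (fun γ' => γ' ∘ π.symm) (fun γ' => γ' ∘ π) ?_ ?_ ?_ ?_ ?_
    · intro γ' h
      rw [mem_preds] at h ⊢
      refine ⟨fun i => by simpa using h.1 (π.symm i), ?_⟩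
      calc ∑ i, (γ' ∘ π.symm) i + r = ∑ i, γ' i + r :=
            congrArg (· + r) (Equiv.sum_comp π.symm γ')
        _ = ∑ i, (γ ∘ π) i := h.2
        _ = ∑ i, γ i := Equiv.sum_comp π γ
    · intro γ' h
      rw [mem_preds] at h ⊢
      refine ⟨fun i => h.1 (π i), ?_⟩
      simpa [Function.comp, Equiv.sum_comp π γ', Equiv.sum_comp π γ] using h.2
    · intro γ' _; funext i; simp
    · intro γ' _; funext i; simp
    · intro γ' _
      have h := ih (γ' ∘ π.symm) π
      rw [← h]
      congr 1
      funext i; simp

theorem alt_eq_zero_of_eq (L : List ℕ) (γ : Fin n → ℕ) {i j : Fin n} (hne : i ≠ j)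
    (h : γ i = γ j) : alt L γ = 0 := by
  have h1 : γ ∘ Equiv.swap i j = γ := by
    funext l
    simp only [Function.comp, Equiv.swap_apply_def]
    split_ifs with a b
    · rw [a, h]
    · rw [b, h]
    · rfl
  have h2 := alt_comp L γ (Equiv.swap i j)
  rw [h1, Equiv.Perm.sign_swap hne] at h2
  simp only [Units.val_neg, Units.val_one] at h2
  omega

/-- Interlacing of a predecessor with a strictly increasing vector. -/
def interlace (γ γ' : Fin n → ℕ) : Prop := ∀ i j : Fin n, i.val + 1 = j.val → γ i < γ' j

/-- The elementary Pieri rule: only interlacing predecessors survive. -/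
theorem alt_cons (r : ℕ) (L : List ℕ) {γ : Fin n → ℕ} (hγ : StrictMono γ)
    [DecidablePred (interlace γ)] :
    alt (r :: L) γ = ∑ γ' ∈ (preds r γ).filter (interlace γ), alt L γ' := by
  classical
  show ∑ γ' ∈ preds r γ, alt L γ' = _
  rw [← Finset.sum_filter_add_sum_filter_not (preds r γ) (interlace γ)]
  refine add_eq_left.2 ?_
  let bad : (Fin n → ℕ) → Finset (Fin n) := fun γ' =>
    univ.filter fun j : Fin n => 0 < j.val ∧ γ' j ≤ γ ⟨j.val - 1, by omega⟩
  have hbad : ∀ γ' ∈ (preds r γ).filter (fun x => ¬ interlace γ x), (bad γ').Nonempty := by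
    intro γ' h
    obtain ⟨-, hn⟩ := mem_filter.1 h
    unfold interlace at hn
    push Not at hn
    obtain ⟨i, j, hij, hle⟩ := hn
    refine ⟨j, ?_⟩
    simp only [bad, mem_filter, mem_univ, true_and]
    refine ⟨by omega, ?_⟩
    rwa [show (⟨j.val - 1, by omega⟩ : Fin n) = i from Fin.ext (by simp; omega)]
  refine Finset.sum_involution
    (fun γ' h => γ' ∘ Equiv.swap ((bad γ').max' (hbad γ' h))
      ⟨((bad γ').max' (hbad γ' h)).val - 1, by omega⟩) ?_ ?_ ?_ ?_
  · intro γ' h
    have hj := (bad γ').max'_mem (hbad γ' h)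
    simp only [bad, mem_filter, mem_univ, true_and] at hj
    rw [alt_comp, Equiv.Perm.sign_swap]
    · simp
    · exact fun e => (Nat.sub_lt hj.1 one_pos).ne (congrArg Fin.val e).symm
  · intro γ' h hne he
    have hj := (bad γ').max'_mem (hbad γ' h)
    simp only [bad, mem_filter, mem_univ, true_and] at hj
    set j := (bad γ').max' (hbad γ' h)
    have hne2 : j ≠ ⟨j.val - 1, by omega⟩ := fun e =>
      (Nat.sub_lt hj.1 one_pos).ne (congrArg Fin.val e).symm
    apply hne
    refine alt_eq_zero_of_eq L γ' hne2 ?_
    have := congrFun he j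
    exact this.symm.trans (congrArg γ' (Equiv.swap_apply_left _ _))
  · intro γ' h
    have hj := (bad γ').max'_mem (hbad γ' h)
    simp only [bad, mem_filter, mem_univ, true_and] at hj
    set j := (bad γ').max' (hbad γ' h) with hjdef
    obtain ⟨hp, hn⟩ := mem_filter.1 h
    rw [mem_preds] at hp
    refine mem_filter.2 ⟨mem_preds.2 ⟨fun l => ?_, ?_⟩, ?_⟩
    · simp only [Function.comp, Equiv.swap_apply_def]
      split_ifs with a b
      · subst a; exact (hp.1 _).trans (hγ.monotone (Fin.le_def.2 (by simp)))
      · subst b; exact hj.2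
      · exact hp.1 l
    · rw [← hp.2]
      exact congrArg (· + r) (Equiv.sum_comp _ γ')
    · intro hi
      have := hi ⟨j.val - 1, by omega⟩ j (by simp; omega)
      exact absurd (lt_of_lt_of_eq this (congrArg γ' (Equiv.swap_apply_left _ _))) (not_lt.2 (hp.1 _))
  · intro γ' h
    have hmem := (bad γ').max'_mem (hbad γ' h)
    simp only [bad, mem_filter, mem_univ, true_and] at hmem
    set j := (bad γ').max' (hbad γ' h) with hjdef
    obtain ⟨hp, -⟩ := mem_filter.1 h
    rw [mem_preds] at hp
    set γ'' := γ' ∘ Equiv.swap j ⟨j.val - 1, by omega⟩ with hγ''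
    have hj2 : j ∈ bad γ'' := by
      simp only [bad, mem_filter, mem_univ, true_and, hγ'', Function.comp, Equiv.swap_apply_left]
      exact ⟨hmem.1, hp.1 _⟩
    have hmax : ∀ l ∈ bad γ'', l ≤ j := by
      intro l hl
      by_contra hlt
      push Not at hlt
      rw [Fin.lt_def] at hlt
      have hl' : l ∈ bad γ' := by
        simp only [bad, mem_filter, mem_univ, true_and, hγ'', Function.comp] at hl ⊢
        rwa [Equiv.swap_apply_of_ne_of_ne (fun e => by subst e; omega)
          (fun e => by subst e; simp at hlt; omega)] at hl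
      have h5 : l ≤ j := Finset.le_max' _ l hl'
      rw [Fin.le_def] at h5
      omega
    have he : (bad γ'').max' ⟨j, hj2⟩ = j := le_antisymm (hmax _ ((bad γ'').max'_mem _)) (Finset.le_max' _ j hj2)
    funext l
    change γ' (Equiv.swap j ⟨j.val - 1, _⟩ (Equiv.swap ((bad γ'').max' _) ⟨((bad γ'').max' _).val - 1, _⟩ l)) = γ' l
    simp only [he, Equiv.swap_apply_self]

/-- The part of a strictly increasing vector above the staircase. -/
def shape (γ : Fin n → ℕ) (i : Fin n) : ℕ := γ i - i.val

theorem val_le_of_strictMono {γ : Fin n → ℕ} (hγ : StrictMono γ) (i : Fin n) : i.val ≤ γ i := by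
  obtain ⟨k, hk⟩ := i
  induction k with
  | zero => exact Nat.zero_le _
  | succ k ih =>
    have := hγ (show (⟨k, by omega⟩ : Fin n) < ⟨k + 1, hk⟩ from Fin.mk_lt_mk.2 (Nat.lt_succ_self k))
    have := ih (by omega)
    show k + 1 ≤ _
    simp only at *
    omega

theorem shape_add {γ : Fin n → ℕ} (hγ : StrictMono γ) (i : Fin n) : shape γ i + i.val = γ i :=
  Nat.sub_add_cancel (val_le_of_strictMono hγ i)

theorem strictMono_of_interlace {γ γ' : Fin n → ℕ} (hle : ∀ i, γ' i ≤ γ i) (h : interlace γ γ') :
    StrictMono γ' := by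
  cases n with
  | zero => exact fun i => i.elim0
  | succ m =>
    rw [Fin.strictMono_iff_lt_succ]
    intro i
    exact lt_of_le_of_lt (hle _) (h _ _ (by simp))

/-- The list of the parts of index at least `j`. -/
def partsFrom (ν : Fin n → ℕ) (j : ℕ) : List ℕ := (List.ofFn ν).drop j

theorem partsFrom_cons (ν : Fin n → ℕ) (j : Fin n) :
    partsFrom ν j.val = ν j :: partsFrom ν (j.val + 1) := by
  unfold partsFrom
  rw [List.drop_eq_getElem_cons (by simp), List.getElem_ofFn]

theorem partsFrom_top (ν : Fin n → ℕ) : partsFrom ν n = [] := by simp [partsFrom]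

/-- The sum of the entries of index at least `t`. -/
def above (f : Fin n → ℕ) (t : ℕ) : ℕ := ∑ i ∈ univ.filter (fun i : Fin n => t ≤ i.val), f i

theorem above_succ (f : Fin n → ℕ) (i : Fin n) : above f i.val = f i + above f (i.val + 1) := by
  unfold above
  rw [show (univ.filter fun j : Fin n => i.val ≤ j.val) = insert i (univ.filter fun j : Fin n => i.val + 1 ≤ j.val) by
    ext j; simp only [mem_filter, mem_univ, true_and, mem_insert, Fin.ext_iff]; omega]
  rw [sum_insert (by simp)]

theorem above_top (f : Fin n → ℕ) : above f n = 0 := by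
  unfold above
  rw [filter_false_of_mem (fun i _ => by have := i.isLt; omega), sum_empty]

theorem above_zero (f : Fin n → ℕ) : above f 0 = ∑ i, f i := by simp [above]

theorem triangular {ν : Fin n → ℕ} (hν : Monotone ν) : ∀ d j : ℕ, j + d = n →
    (∀ γ : Fin n → ℕ, StrictMono γ → alt (partsFrom ν j) γ ≠ 0 →
      (∀ i : Fin n, i.val < j → shape γ i = 0) ∧
      (∀ t, j ≤ t → above ν t ≤ above (shape γ) t) ∧
      ∑ i, shape γ i = above ν j) ∧
    alt (partsFrom ν j) (fun i => (if j ≤ i.val then ν i else 0) + i.val) = 1 := by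
  classical
  intro d
  induction d with
  | zero =>
    intro j hj
    have hj' : j = n := by omega
    subst hj'
    rw [partsFrom_top]
    refine ⟨fun γ hγ hne => ?_, ?_⟩
    · have h0 : ∀ i, shape γ i = 0 := by
        obtain ⟨κ, -, hκ⟩ := Finset.exists_ne_zero_of_sum_ne_zero (show delta γ ≠ 0 from hne)
        have hγκ : γ = fun i => (κ i).val := by
          by_contra hc
          rw [if_neg hc] at hκ
          exact hκ rfl
        have hmono : StrictMono κ := fun a b hab => by
          have := hγ hab
          rw [hγκ] at this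
          exact this
        have hκ1 : ∀ i, κ i = i := fun i => congrFun hmono.eq_id i
        intro i
        simp [shape, hγκ, hκ1 i]
      refine ⟨fun i _ => h0 i, fun t ht => ?_, by rw [above_top]; simp [h0]⟩
      have : above ν t = 0 := by
        unfold above
        rw [filter_false_of_mem (fun i _ => by have := i.isLt; omega), sum_empty]
      omega
    · show delta _ = 1
      unfold delta
      rw [Finset.sum_eq_single 1]
      · rw [if_pos (funext fun i => by
          rw [if_neg (by have := i.isLt; omega), zero_add]; rfl)]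
        simp
      · intro κ _ hκ
        rw [if_neg]
        intro h
        apply hκ
        refine Equiv.ext fun i => Fin.ext ?_
        have := congrFun h i
        rw [if_neg (by have := i.isLt; omega), zero_add] at this
        exact this.symm
      · simp
  | succ d ih =>
    intro j hj
    have hjn : j < n := by omega
    obtain ⟨ih1, ih2⟩ := ih (j + 1) (by omega)
    set J : Fin n := ⟨j, hjn⟩
    rw [show partsFrom ν j = ν J :: partsFrom ν (j + 1) from partsFrom_cons ν J]
    have hab : above ν j = ν J + above ν (j + 1) := above_succ ν J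
    constructor
    · intro γ hγ hne
      rw [alt_cons _ _ hγ] at hne
      obtain ⟨γ', hmem, hne'⟩ := Finset.exists_ne_zero_of_sum_ne_zero hne
      obtain ⟨hp, hint⟩ := mem_filter.1 hmem
      rw [mem_preds] at hp
      have hγ' := strictMono_of_interlace hp.1 hint
      obtain ⟨a, b, c⟩ := ih1 γ' hγ' hne'
      have hsum : ∑ i, shape γ i = ∑ i, shape γ' i + ν J := by
        have e1 : ∑ i, (shape γ i + i.val) = ∑ i, γ i := sum_congr rfl fun i _ => shape_add hγ i
        have e2 : ∑ i, (shape γ' i + i.val) = ∑ i, γ' i := sum_congr rfl fun i _ => shape_add hγ' i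
        rw [sum_add_distrib] at e1 e2
        omega
      have hzero : ∀ i : Fin n, i.val < j → shape γ i = 0 := fun i hi => by
        have h1 := hint i ⟨i.val + 1, by omega⟩ rfl
        have h2 := a ⟨i.val + 1, by omega⟩ (by simp; omega)
        have h3 := shape_add hγ' ⟨i.val + 1, by omega⟩
        have h4 := shape_add hγ i
        simp only at h3
        omega
      refine ⟨hzero, fun t ht => ?_, by omega⟩
      rcases eq_or_lt_of_le ht with rfl | ht'
      · have : above (shape γ) j = ∑ i, shape γ i := by
          unfold above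
          refine Finset.sum_subset (subset_univ _) fun i _ hi => hzero i ?_
          simp only [mem_filter, mem_univ, true_and, not_le] at hi
          exact hi
        omega
      · refine (b t ht').trans (Finset.sum_le_sum fun i _ => ?_)
        exact Nat.sub_le_sub_right (hp.1 i) _
    · set γ₀ : Fin n → ℕ := fun i => (if j ≤ i.val then ν i else 0) + i.val with hγ₀
      set γ₁ : Fin n → ℕ := fun i => (if j + 1 ≤ i.val then ν i else 0) + i.val with hγ₁
      have hm : StrictMono γ₀ := by
        intro a b hab
        have := hν hab.le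
        rw [Fin.lt_def] at hab
        simp only [hγ₀]
        split_ifs <;> omega
      rw [alt_cons _ _ hm, Finset.sum_eq_single γ₁]
      · exact ih2
      · intro γ' hmem hne
        by_contra hne'
        obtain ⟨hp, hint⟩ := mem_filter.1 hmem
        rw [mem_preds] at hp
        have hγ' := strictMono_of_interlace hp.1 hint
        obtain ⟨a, b, -⟩ := ih1 γ' hγ' hne'
        apply hne
        have hle : ∀ i : Fin n, j + 1 ≤ i.val → shape γ' i ≤ ν i := fun i hi => by
          have h1 := hp.1 i
          have h2 := shape_add hγ' i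
          simp only [hγ₀, if_pos (show j ≤ i.val by omega)] at h1
          omega
        have heq : ∀ i ∈ univ.filter (fun i : Fin n => j + 1 ≤ i.val), shape γ' i = ν i :=
          (Finset.sum_eq_sum_iff_of_le fun i hi => hle i (mem_filter.1 hi).2).1
            (le_antisymm (Finset.sum_le_sum fun i hi => hle i (mem_filter.1 hi).2) (b (j + 1) le_rfl))
        funext i
        have h2 := shape_add hγ' i
        simp only [hγ₁]
        split_ifs with hi
        · rw [heq i (mem_filter.2 ⟨mem_univ _, hi⟩)] at h2
          omega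
        · rw [a i (by omega)] at h2
          omega
      · intro h
        refine absurd (mem_filter.2 ⟨mem_preds.2 ⟨fun i => ?_, ?_⟩, fun a b hab => ?_⟩) h
        · simp only [hγ₀, hγ₁]; split_ifs <;> omega
        · simp only [hγ₀, hγ₁, sum_add_distrib, ← sum_filter]
          show above ν (j + 1) + _ + ν J = above ν j + _
          omega
        · have := hν (show a ≤ b from Fin.le_def.2 (by omega))
          simp only [hγ₀, hγ₁]
          split_ifs <;> omega

theorem alt_eq_signed_ways (L : List ℕ) : ∀ γ : Fin n → ℕ,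
    alt L γ = ∑ κ : Equiv.Perm (Fin n), if ∀ i, (κ i).val ≤ γ i then
      (Equiv.Perm.sign κ : ℤ) * (ways L (fun i => γ i - (κ i).val) : ℤ) else 0 := by
  classical
  induction L with
  | nil =>
    intro γ
    show delta γ = _
    unfold delta
    refine sum_congr rfl fun κ _ => ?_
    show _ = if _ then _ * ((if _ then 1 else 0 : ℕ) : ℤ) else 0
    by_cases h : γ = fun i => (κ i).val
    · rw [if_pos h, if_pos (fun i => by rw [h]), if_pos (funext fun i => by simp [h])]
      simp
    · rw [if_neg h]
      split_ifs with h1 h2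
      · exact absurd (funext fun i => by
          have := congrFun h2 i
          simp only [Pi.zero_apply] at this
          have := h1 i
          omega) h
      · simp
      · rfl
  | cons r L ih =>
    intro γ
    show ∑ γ' ∈ preds r γ, alt L γ' = _
    simp only [ih]
    rw [sum_comm]
    refine sum_congr rfl fun κ _ => ?_
    rw [← sum_filter]
    by_cases hk : ∀ i, (κ i).val ≤ γ i
    · rw [if_pos hk]
      show _ = _ * ((∑ α' ∈ preds r (fun i => γ i - (κ i).val), ways L α' : ℕ) : ℤ)
      push_cast
      rw [mul_sum]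
      have hcancel : ∀ (f : Fin n → ℕ), (∀ i, (κ i).val ≤ f i) →
          ∑ i, (f i - (κ i).val) + ∑ i, (κ i).val = ∑ i, f i := fun f hf => by
        rw [← sum_add_distrib]; exact sum_congr rfl fun i _ => Nat.sub_add_cancel (hf i)
      refine Finset.sum_nbij' (fun γ' => fun i => γ' i - (κ i).val) (fun α' => fun i => α' i + (κ i).val) ?_ ?_ ?_ ?_ ?_
      · intro γ' h
        obtain ⟨hp, hle⟩ := mem_filter.1 h
        rw [mem_preds] at hp
        refine mem_preds.2 ⟨fun i => Nat.sub_le_sub_right (hp.1 i) _, ?_⟩
        have := hcancel γ' hle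
        have := hcancel γ hk
        omega
      · intro α' h
        rw [mem_preds] at h
        have := hcancel γ hk
        refine mem_filter.2 ⟨mem_preds.2 ⟨fun i => ?_, ?_⟩, fun i => Nat.le_add_left _ _⟩
        · have := h.1 i; have := hk i; omega
        · rw [sum_add_distrib]; omega
      · intro γ' h; funext i; exact Nat.sub_add_cancel ((mem_filter.1 h).2 i)
      · intro α' _; funext i; simp
      · intro γ' _; rfl
    · rw [if_neg hk]
      refine sum_eq_zero fun γ' h => absurd (fun i => ?_) hk
      obtain ⟨hp, hle⟩ := mem_filter.1 h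
      exact (hle i).trans ((mem_preds.1 hp).1 i)

/-- Natural matrices with `m` columns and given margins. -/
abbrev Margins (α : Fin n → ℕ) {m : ℕ} (β : Fin m → ℕ) : Type :=
  {M : Fin n → Fin m → ℕ // (∀ i, ∑ j, M i j = α i) ∧ ∀ j, ∑ i, M i j = β j}

instance (α : Fin n → ℕ) {m : ℕ} (β : Fin m → ℕ) : Finite (Margins α β) :=
  Finite.of_injective (fun M (i : Fin n) (j : Fin m) => (⟨M.1 i j,
    Nat.lt_succ_of_le ((Finset.single_le_sum (fun l _ => Nat.zero_le (M.1 i l)) (mem_univ j)).trans
      (M.2.1 i).le)⟩ : Fin (α i + 1))) fun M M' h => Subtype.ext (funext fun i => funext fun j =>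
        congrArg Fin.val (congrFun (congrFun h i) j))

theorem card_margins : ∀ {m : ℕ} (β : Fin m → ℕ) (α : Fin n → ℕ),
    Nat.card (Margins α β) = ways (List.ofFn β) α := by
  classical
  intro m
  induction m with
  | zero =>
    intro β α
    show _ = if α = 0 then 1 else 0
    split_ifs with h
    · subst h
      haveI : Subsingleton (Margins (0 : Fin n → ℕ) β) :=
        ⟨fun M M' => Subtype.ext (funext fun i => funext fun j => j.elim0)⟩
      exact Nat.card_eq_one_iff_unique.2 ⟨inferInstance,
        ⟨⟨fun _ j => j.elim0, fun i => by simp, fun j => j.elim0⟩⟩⟩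
    · haveI : IsEmpty (Margins α β) := ⟨fun M => h (funext fun i => by
        rw [← M.2.1 i]; simp)⟩
      simp
  | succ m ih =>
    intro β α
    rw [List.ofFn_succ]
    show _ = ∑ α' ∈ preds (β 0) α, ways (List.ofFn fun i => β i.succ) α'
    simp only [← ih]
    rw [← Finset.sum_coe_sort, ← Nat.card_sigma]
    refine Nat.card_congr
      { toFun := fun M => ⟨⟨fun i => ∑ j, M.1 i (Fin.succ j), mem_preds.2 ⟨fun i => ?_, ?_⟩⟩,
          ⟨fun i j => M.1 i j.succ, fun i => rfl, fun j => M.2.2 j.succ⟩⟩
        invFun := fun x => ⟨fun i => Fin.cons (α i - x.1.1 i) (x.2.1 i), ?_, ?_⟩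
        left_inv := fun M => ?_
        right_inv := fun x => ?_ }
    · rw [← M.2.1 i, Fin.sum_univ_succ]; exact Nat.le_add_left _ _
    · rw [← M.2.2 0, ← sum_add_distrib]
      exact sum_congr rfl fun i _ => by rw [← M.2.1 i, Fin.sum_univ_succ, add_comm]
    · intro i
      rw [Fin.sum_univ_succ]
      simp only [Fin.cons_zero, Fin.cons_succ, x.2.2.1 i]
      exact Nat.sub_add_cancel ((mem_preds.1 x.1.2).1 i)
    · intro j
      refine Fin.cases ?_ (fun j => ?_) j
      · simp only [Fin.cons_zero]
        have h := (mem_preds.1 x.1.2).2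
        have hs : ∑ i, (α i - x.1.1 i) + ∑ i, x.1.1 i = ∑ i, α i := by
          rw [← sum_add_distrib]
          exact sum_congr rfl fun i _ => Nat.sub_add_cancel ((mem_preds.1 x.1.2).1 i)
        omega
      · simp only [Fin.cons_succ]
        exact x.2.2.2 j
    · refine Subtype.ext (funext fun i => funext fun j => ?_)
      refine Fin.cases ?_ (fun j => ?_) j
      · simp only [Fin.cons_zero]
        rw [← M.2.1 i, Fin.sum_univ_succ, Nat.add_sub_cancel]
      · simp only [Fin.cons_succ]
    · obtain ⟨⟨α', hα'⟩, ⟨M, hM1, hM2⟩⟩ := x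
      exact Sigma.subtype_ext (Subtype.ext (funext fun i => by simp only [Fin.cons_succ]; exact hM1 i))
        (funext fun i => funext fun j => by simp only [Fin.cons_succ])

theorem card_margins_comp {m : ℕ} (α : Fin n → ℕ) (β : Fin m → ℕ) (σ : Equiv.Perm (Fin m)) :
    Nat.card (Margins α (β ∘ σ)) = Nat.card (Margins α β) := by
  refine Nat.card_congr
    { toFun := fun M => ⟨fun i j => M.1 i (σ.symm j),
        fun i => (Equiv.sum_comp σ.symm (M.1 i)).trans (M.2.1 i),
        fun j => by simpa using M.2.2 (σ.symm j)⟩
      invFun := fun M => ⟨fun i j => M.1 i (σ j),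
        fun i => (Equiv.sum_comp σ (M.1 i)).trans (M.2.1 i), fun j => M.2.2 (σ j)⟩
      left_inv := fun M => Subtype.ext (funext fun i => funext fun j => by simp)
      right_inv := fun M => Subtype.ext (funext fun i => funext fun j => by simp) }

end CfsgLib.GLFlag.Pieri
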