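import Cfsg.Agent.GLFlag.Order
import Cfsg.Agent.GLFlag.Pieri

/-!
Double cosets of Young subgroups and of parabolic subgroups: both are parametrised by natural
matrices with given margins.
-/

set_option autoImplicit false

namespace CfsgLib.GLFlag

open Finset Matrix

universe u

theorem orbit_count {G : Type u} [Group G] [Fintype G] (A B : Subgroup G) {T : Type*}
    (Φ : T → G) (hsurj : ∀ g : G, ∃ t, ∃ a ∈ A, ∃ b ∈ B, g = a * Φ t * b)
    (hinj : ∀ t t', ∀ a ∈ A, ∀ b ∈ B, Φ t' = a * Φ t * b → t = t') :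
    ∑ g : G, Cfsg.fixedPointCharacter A g * Cfsg.fixedPointCharacter B g
      = (Nat.card T : ℂ) * (Nat.card G : ℂ) := by
  classical
  haveI := Fintype.ofFinite (G ⧸ A)
  haveI := Fintype.ofFinite (G ⧸ B)
  haveI : Fintype (Quotient (MulAction.orbitRel G ((G ⧸ A) × (G ⧸ B)))) := Fintype.ofFinite _
  have hb := MulAction.sum_card_fixedBy_eq_card_orbits_mul_card_group G ((G ⧸ A) × (G ⧸ B))
  have hfix : ∀ g : G, Fintype.card (MulAction.fixedBy ((G ⧸ A) × (G ⧸ B)) g) =
      Nat.card (MulAction.fixedBy (G ⧸ A) g) * Nat.card (MulAction.fixedBy (G ⧸ B) g) := by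
    intro g
    rw [← Nat.card_eq_fintype_card, ← Nat.card_prod]
    refine Nat.card_congr
      { toFun := fun x => (⟨x.1.1, (Prod.ext_iff.1 x.2).1⟩, ⟨x.1.2, (Prod.ext_iff.1 x.2).2⟩)
        invFun := fun y => ⟨(y.1.1, y.2.1), Prod.ext y.1.2 y.2.2⟩
        left_inv := fun x => rfl
        right_inv := fun y => rfl }
  have hT : Nat.card T = Fintype.card (Quotient (MulAction.orbitRel G ((G ⧸ A) × (G ⧸ B)))) := by
    rw [← Nat.card_eq_fintype_card]
    refine Nat.card_congr (Equiv.ofBijective
      (fun t => Quotient.mk (MulAction.orbitRel G ((G ⧸ A) × (G ⧸ B)))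
        (QuotientGroup.mk (1 : G), QuotientGroup.mk (Φ t))) ⟨?_, ?_⟩)
    · intro t t' h
      obtain ⟨g, hg⟩ := MulAction.orbitRel_apply.1 (Quotient.exact h)
      obtain ⟨h1, h2⟩ := Prod.ext_iff.1 hg
      have ha : g ∈ A := by
        have := QuotientGroup.eq.1 h1.symm
        simpa using this
      have hb : (Φ t)⁻¹ * (g * Φ t') ∈ B := QuotientGroup.eq.1 h2.symm
      refine hinj t t' g⁻¹ (A.inv_mem ha) _ hb ?_
      group
    · intro x
      obtain ⟨⟨x1, x2⟩, rfl⟩ := Quotient.exists_rep x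
      obtain ⟨y1, rfl⟩ := QuotientGroup.mk_surjective x1
      obtain ⟨y2, rfl⟩ := QuotientGroup.mk_surjective x2
      obtain ⟨t, a, ha, b, hb, hab⟩ := hsurj (y1⁻¹ * y2)
      refine ⟨t, Quotient.sound (MulAction.orbitRel_apply.2 ⟨(y1 * a)⁻¹, ?_⟩)⟩
      refine Prod.ext (QuotientGroup.eq.2 ?_) (QuotientGroup.eq.2 ?_)
      · show (((y1 * a)⁻¹ * y1))⁻¹ * 1 ∈ A
        simpa using ha
      · show ((y1 * a)⁻¹ * y2)⁻¹ * Φ t ∈ B
        rw [show y2 = y1 * (a * Φ t * b) by rw [← hab]; group]
        rw [show ((y1 * a)⁻¹ * (y1 * (a * Φ t * b)))⁻¹ * Φ t = b⁻¹ by group]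
        exact B.inv_mem hb
  have hcast : ((∑ g : G, Fintype.card (MulAction.fixedBy ((G ⧸ A) × (G ⧸ B)) g) : ℕ) : ℂ)
      = (Nat.card T : ℂ) * (Nat.card G : ℂ) := by
    rw [hb, hT, Nat.card_eq_fintype_card]
    push_cast
    ring
  rw [← hcast, Nat.cast_sum]
  refine sum_congr rfl fun g _ => ?_
  rw [hfix, Nat.cast_mul]
  rfl

theorem exists_perm_of_fiber {ι X : Type*} [Fintype ι] [DecidableEq X] (f g : ι → X)
    (h : ∀ x, (univ.filter fun i => f i = x).card = (univ.filter fun i => g i = x).card) :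
    ∃ e : Equiv.Perm ι, ∀ i, g (e i) = f i :=
  ⟨Equiv.ofFiberEquiv (f := f) (g := g) fun x => Fintype.equivOfCardEq
    (by rw [Fintype.card_subtype, Fintype.card_subtype, h]), fun i => Equiv.ofFiberEquiv_map _ i⟩

variable {n : ℕ}

/-- The number of points in each pair of blocks. -/
def cellCount (L L' : Fin n → Fin n) (w : Equiv.Perm (Fin n)) (i j : Fin n) : ℕ :=
  (univ.filter fun l => L' l = j ∧ L (w l) = i).card

theorem cellCount_margins {α β : Fin n → ℕ} (hα : ∑ i, α i = n) (hβ : ∑ i, β i = n)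
    (w : Equiv.Perm (Fin n)) :
    (∀ i, ∑ j, cellCount (label α hα) (label β hβ) w i j = α i) ∧
      ∀ j, ∑ i, cellCount (label α hα) (label β hβ) w i j = β j := by
  constructor
  · intro i
    unfold cellCount
    rw [← card_label_fiber α hα i, Fintype.card_subtype]
    rw [show (univ.filter fun a => label α hα a = i).card = (univ.filter fun l => label α hα (w l) = i).card from
      Finset.card_bij' (fun a _ => w.symm a) (fun l _ => w l) (by simp) (by simp) (by simp) (by simp)]
    rw [Finset.card_eq_sum_card_fiberwise (f := label β hβ) (t := univ) (fun _ _ => mem_univ _)]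
    refine sum_congr rfl fun j _ => ?_
    rw [filter_filter]
    exact congrArg card (filter_congr fun l _ => by tauto)
  · intro j
    unfold cellCount
    rw [← card_label_fiber β hβ j, Fintype.card_subtype]
    rw [Finset.card_eq_sum_card_fiberwise (s := univ.filter fun l => label β hβ l = j)
      (f := fun l => label α hα (w l)) (t := univ) (fun _ _ => mem_univ _)]
    refine sum_congr rfl fun i _ => ?_
    rw [filter_filter]

theorem exists_perm_cell {α β : Fin n → ℕ} (hα : ∑ i, α i = n) (hβ : ∑ i, β i = n)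
    (M : Pieri.Margins α β) :
    ∃ w : Equiv.Perm (Fin n), ∀ i j, cellCount (label α hα) (label β hβ) w i j = M.1 i j := by
  classical
  have hcard : Fintype.card (Σ p : Fin n × Fin n, Fin (M.1 p.1 p.2)) = n := by
    simp only [Fintype.card_sigma, Fintype.card_fin]
    rw [Fintype.sum_prod_type]
    simp only [M.2.1, hα]
  let e := (Fintype.equivFinOfCardEq hcard).symm
  have hc : ∀ i j, (univ.filter fun l => (e l).1 = (i, j)).card = M.1 i j := by
    intro i j
    rw [← Fintype.card_subtype]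
    calc Fintype.card {l // (e l).1 = (i, j)}
        = Fintype.card {y : Σ p : Fin n × Fin n, Fin (M.1 p.1 p.2) // y.1 = (i, j)} :=
          Fintype.card_congr (e.subtypeEquiv fun l => Iff.rfl)
      _ = Fintype.card (Fin (M.1 i j)) := Fintype.card_congr (Equiv.sigmaSubtype (i, j))
      _ = _ := Fintype.card_fin _
  have hα' : ∀ x, (univ.filter fun l => (e l).1.1 = x).card =
      (univ.filter fun l => label α hα l = x).card := by
    intro x
    rw [← Fintype.card_subtype (fun l => label α hα l = x), card_label_fiber, ← M.2.1 x]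
    rw [Finset.card_eq_sum_card_fiberwise (f := fun l => (e l).1.2) (t := univ) (fun _ _ => mem_univ _)]
    refine sum_congr rfl fun j _ => ?_
    rw [← hc x j, filter_filter]
    exact congrArg card (filter_congr fun l _ => by rw [Prod.ext_iff])
  have hβ' : ∀ x, (univ.filter fun l => (e l).1.2 = x).card =
      (univ.filter fun l => label β hβ l = x).card := by
    intro x
    rw [← Fintype.card_subtype (fun l => label β hβ l = x), card_label_fiber, ← M.2.2 x]
    rw [Finset.card_eq_sum_card_fiberwise (f := fun l => (e l).1.1) (t := univ) (fun _ _ => mem_univ _)]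
    refine sum_congr rfl fun i _ => ?_
    rw [← hc i x, filter_filter]
    exact congrArg card (filter_congr fun l _ => by rw [Prod.ext_iff]; tauto)
  obtain ⟨e2, he2⟩ := exists_perm_of_fiber _ _ hα'
  obtain ⟨e1, he1⟩ := exists_perm_of_fiber _ _ hβ'
  refine ⟨e1.symm.trans e2, fun i j => ?_⟩
  rw [← hc i j]
  unfold cellCount
  refine Finset.card_bij' (fun l _ => e1.symm l) (fun l _ => e1 l) ?_ ?_ (by simp) (by simp)
  · intro l hl
    obtain ⟨h1, h2⟩ := (mem_filter.1 hl).2
    refine mem_filter.2 ⟨mem_univ _, ?_⟩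
    have h := he1 (e1.symm l)
    rw [Equiv.apply_symm_apply] at h
    exact Prod.ext ((he2 _).symm.trans h2) (h.symm.trans h1)
  · intro l hl
    have h1 := (mem_filter.1 hl).2
    refine mem_filter.2 ⟨mem_univ _, (he1 l).trans (congrArg Prod.snd h1), ?_⟩
    show label α hα (e2 (e1.symm (e1 l))) = i
    rw [Equiv.symm_apply_apply, he2, h1]

theorem exists_uwv {L L' : Fin n → Fin n} {w w' : Equiv.Perm (Fin n)}
    (h : ∀ i j, cellCount L L' w i j = cellCount L L' w' i j) :
    ∃ u v : Equiv.Perm (Fin n), (∀ i, L (u i) = L i) ∧ (∀ i, L' (v i) = L' i) ∧ w' = u * w * v := by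
  classical
  obtain ⟨v, hv⟩ := exists_perm_of_fiber (fun l => (L' l, L (w' l))) (fun l => (L' l, L (w l)))
    (fun x => by
      have := h x.2 x.1
      unfold cellCount at this
      simp only [Prod.ext_iff]
      exact this.symm)
  refine ⟨w' * v⁻¹ * w⁻¹, v, fun i => ?_, fun i => (Prod.ext_iff.1 (hv i)).1, by group⟩
  have h1 := (Prod.ext_iff.1 (hv (v⁻¹ (w⁻¹ i)))).2
  simp only [Equiv.Perm.coe_inv, Equiv.apply_symm_apply] at h1
  simp only [Equiv.Perm.mul_apply, Equiv.Perm.coe_inv]
  exact h1.symm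

theorem mem_young_iff {α : Fin n → ℕ} (hα : ∑ i, α i = n) (σ : Equiv.Perm (Fin n)) :
    σ ∈ Cfsg.youngSubgroup α ↔ ∀ i, label α hα (σ i) = label α hα i :=
  ⟨fun h i => Fin.ext (h i), fun h i => congrArg Fin.val (h i)⟩

theorem young_pair {α β : Fin n → ℕ} (hα : ∑ i, α i = n) (hβ : ∑ i, β i = n) :
    ∑ σ : Equiv.Perm (Fin n), Cfsg.fixedPointCharacter (Cfsg.youngSubgroup α) σ *
        Cfsg.fixedPointCharacter (Cfsg.youngSubgroup β) σ
      = (Nat.card (Pieri.Margins α β) : ℂ) * (Nat.card (Equiv.Perm (Fin n)) : ℂ) := by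
  classical
  choose Φ hΦ using exists_perm_cell hα hβ
  refine orbit_count _ _ Φ ?_ ?_
  · intro g
    let M : Pieri.Margins α β := ⟨_, cellCount_margins hα hβ g⟩
    obtain ⟨u, v, hu, hv, hg⟩ := exists_uwv (L := label α hα) (L' := label β hβ) (w := Φ M) (w' := g)
      (fun i j => hΦ M i j)
    exact ⟨M, u, (mem_young_iff hα u).2 hu, v, (mem_young_iff hβ v).2 hv, hg⟩
  · intro t t' a ha b hb he
    refine Subtype.ext (funext fun i => funext fun j => ?_)
    rw [← hΦ t i j, ← hΦ t' i j, he]
    unfold cellCount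
    rw [mem_young_iff hα] at ha
    rw [mem_young_iff hβ] at hb
    refine Finset.card_bij' (fun l _ => b.symm l) (fun l _ => b l) ?_ ?_ (by simp) (by simp)
    · intro l hl
      obtain ⟨h1, h2⟩ := (mem_filter.1 hl).2
      refine mem_filter.2 ⟨mem_univ _, ?_, ?_⟩
      · have := hb (b.symm l)
        rw [Equiv.apply_symm_apply] at this
        exact this.symm.trans h1
      · show label α hα (a (Φ t (b (b.symm l)))) = i
        rw [Equiv.apply_symm_apply, ha]; exact h2
    · intro l hl
      obtain ⟨h1, h2⟩ := (mem_filter.1 hl).2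
      exact mem_filter.2 ⟨mem_univ _, (hb l).trans h1, (ha _).symm.trans h2⟩

variable {F : Type*} [Field F]

/-- Permutation matrices, as elements of the general linear group. -/
def permGL (w : Equiv.Perm (Fin n)) : GL (Fin n) F where
  val := (w⁻¹ : Equiv.Perm (Fin n)).permMatrix F
  inv := w.permMatrix F
  val_inv := by rw [← Matrix.permMatrix_mul, mul_inv_cancel, Matrix.permMatrix_one]
  inv_val := by rw [← Matrix.permMatrix_mul, inv_mul_cancel, Matrix.permMatrix_one]

theorem permGL_mulVec (w : Equiv.Perm (Fin n)) (v : Fin n → F) :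
    (permGL w : GL (Fin n) F).1 *ᵥ v = v ∘ w.symm := by
  show (w⁻¹ : Equiv.Perm (Fin n)).permMatrix F *ᵥ v = _
  rw [Matrix.permMatrix_mulVec]
  rfl

theorem permGL_mul (u w : Equiv.Perm (Fin n)) :
    (permGL (u * w) : GL (Fin n) F) = permGL u * permGL w := by
  apply Units.ext
  show ((u * w)⁻¹ : Equiv.Perm (Fin n)).permMatrix F = u⁻¹.permMatrix F * w⁻¹.permMatrix F
  rw [_root_.mul_inv_rev, Matrix.permMatrix_mul]

theorem permGL_mem {α : Fin n → ℕ} (hα : ∑ i, α i = n) {u : Equiv.Perm (Fin n)}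
    (hu : ∀ i, label α hα (u i) = label α hα i) : (permGL u : GL (Fin n) F) ∈ Cfsg.parabolicGL n F α := by
  rw [mem_parabolic_iff α hα]
  intro k hk v hv i hi
  rw [permGL_mulVec]
  refine hv _ (not_lt.1 fun hc => ?_)
  have h1 := (compLabel_lt_iff α hk _).2 hc
  have h2 := congrArg Fin.val (hu (u.symm i))
  rw [Equiv.apply_symm_apply] at h2
  simp only [label] at h2
  exact absurd ((compLabel_lt_iff α hk i).1 (h2 ▸ h1)) (not_lt.2 hi)

theorem triangular_mem (α : Fin n → ℕ) {p : GL (Fin n) F}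
    (hp : ∀ i j : Fin n, j < i → (p : Matrix (Fin n) (Fin n) F) i j = 0) :
    p ∈ Cfsg.parabolicGL n F α := by
  intro i j hij
  refine hp i j (not_le.1 fun hle => absurd hij (not_lt.2 ?_))
  unfold Cfsg.compLabel
  exact card_le_card fun l hl => by
    simp only [mem_filter, mem_univ, true_and] at hl ⊢
    exact hl.trans (Fin.le_def.1 hle)

/-- Bruhat decomposition by lowest pivots. -/
theorem bruhat (h : GL (Fin n) F) : ∃ (b₁ b₂ : GL (Fin n) F) (w : Equiv.Perm (Fin n)),
    (∀ i j : Fin n, j < i → (b₁ : Matrix (Fin n) (Fin n) F) i j = 0) ∧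
    (∀ i j : Fin n, j < i → (b₂ : Matrix (Fin n) (Fin n) F) i j = 0) ∧
    h * b₂ = b₁ * permGL w := by
  classical
  set H : Matrix (Fin n) (Fin n) F := (h : Matrix (Fin n) (Fin n) F)
  let cand : Fin n → Finset (Fin n) := fun j => univ.filter fun r : Fin n =>
    ∃ v : Fin n → F, v j = 1 ∧ (∀ i, j < i → v i = 0) ∧ ∀ s, r < s → (H *ᵥ v) s = 0
  have hne : ∀ j : Fin n, (cand j).Nonempty := fun j =>
    ⟨⟨n - 1, by have := j.isLt; omega⟩, mem_filter.2 ⟨mem_univ _, Pi.single j 1, Pi.single_eq_same _ _,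
      fun i hi => Pi.single_eq_of_ne hi.ne' _, fun s hs => by
        rw [Fin.lt_def] at hs
        simp only at hs
        have := s.isLt
        omega⟩⟩
  set piv : Fin n → Fin n := fun j => (cand j).min' (hne j)
  have hpiv : ∀ j, ∃ v : Fin n → F, v j = 1 ∧ (∀ i, j < i → v i = 0) ∧
      ∀ s, piv j < s → (H *ᵥ v) s = 0 := fun j => (mem_filter.1 ((cand j).min'_mem (hne j))).2
  choose V hV1 hV2 hV3 using hpiv
  have hlow : ∀ (j : Fin n) (v : Fin n → F), v j = 1 → (∀ i, j < i → v i = 0) →
      (∀ s, piv j ≤ s → (H *ᵥ v) s = 0) → False := by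
    intro j v h1 h2 h3
    by_cases h0 : (piv j).val = 0
    · have hz : H *ᵥ v = 0 := funext fun s => h3 s (Fin.le_def.2 (by omega))
      have : v = 0 := by
        rw [← gl_cancel h v]
        show _ *ᵥ (H *ᵥ v) = 0
        rw [hz, mulVec_zero]
      rw [this] at h1
      exact zero_ne_one h1
    · set r : Fin n := ⟨(piv j).val - 1, by omega⟩
      have hr : r ∈ cand j := mem_filter.2 ⟨mem_univ _, v, h1, h2, fun s hs => h3 s (by
        rw [Fin.lt_def] at hs; simp only [r] at hs; rw [Fin.le_def]; omega)⟩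
      have hle : piv j ≤ r := (cand j).min'_le r hr
      rw [Fin.le_def] at hle
      simp only [r] at hle
      omega
  have hpne : ∀ j, (H *ᵥ V j) (piv j) ≠ 0 := fun j h0 => hlow j (V j) (hV1 j) (hV2 j) fun s hs => by
    rcases eq_or_lt_of_le hs with rfl | hs
    · exact h0
    · exact hV3 j s hs
  have hinj : Function.Injective piv := by
    intro j k hjk
    by_contra hne'
    wlog hlt : j < k generalizing j k
    · exact this hjk.symm (Ne.symm hne') (lt_of_le_of_ne (not_lt.1 hlt) (Ne.symm hne'))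
    set c := (H *ᵥ V k) (piv k) / (H *ᵥ V j) (piv j)
    refine hlow k (V k - c • V j) ?_ ?_ ?_
    · simp [hV1 k, hV2 j k hlt]
    · intro i hi
      simp [hV2 k i hi, hV2 j i (hlt.trans hi)]
    · intro s hs
      rw [mulVec_sub, mulVec_smul]
      rcases eq_or_lt_of_le hs with rfl | hs'
      · simp only [Pi.sub_apply, Pi.smul_apply, smul_eq_mul, c, ← hjk, div_mul_cancel₀ _ (hpne j), sub_self]
      · simp [hV3 k s hs', hV3 j s (hjk ▸ hs')]
  let w : Equiv.Perm (Fin n) := Equiv.ofBijective piv (Finite.injective_iff_bijective.1 hinj)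
  let B2 : Matrix (Fin n) (Fin n) F := Matrix.of fun i j => V j i
  have hB2t : B2.BlockTriangular id := fun i j hij => hV2 j i hij
  have hB2u : IsUnit B2 := by
    rw [Matrix.isUnit_iff_isUnit_det, Matrix.det_of_isUpperTriangular hB2t]
    simp [B2, hV1]
  let B1 : Matrix (Fin n) (Fin n) F := Matrix.of fun i r => (H *ᵥ V (w.symm r)) i
  have hB1t : B1.BlockTriangular id := fun i r hir => hV3 _ i (by
    show piv (w.symm r) < i
    rw [show piv (w.symm r) = r from w.apply_symm_apply r]
    exact hir)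
  have hB1u : IsUnit B1 := by
    rw [Matrix.isUnit_iff_isUnit_det, Matrix.det_of_isUpperTriangular hB1t, isUnit_iff_ne_zero]
    refine prod_ne_zero_iff.2 fun r _ => ?_
    have := hpne (w.symm r)
    rwa [show piv (w.symm r) = r from w.apply_symm_apply r] at this
  refine ⟨hB1u.unit, hB2u.unit, w, fun i j hij => hB1t hij, fun i j hij => hB2t hij, ?_⟩
  apply Units.ext
  refine Matrix.ext_of_mulVec_single fun j => ?_
  simp only [Units.val_mul, IsUnit.unit_spec, ← mulVec_mulVec, permGL_mulVec]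
  rw [show (Pi.single j (1 : F) : Fin n → F) ∘ w.symm = Pi.single (w j) 1 by
    funext r
    simp only [Function.comp, Pi.single_apply, Equiv.symm_apply_eq]]
  rw [mulVec_single_one, mulVec_single_one]
  funext i
  show (H *ᵥ fun i => V j i) i = (H *ᵥ V (w.symm (w j))) i
  rw [Equiv.symm_apply_apply]
where
  gl_cancel {n : ℕ} {F : Type _} [Field F] (h : GL (Fin n) F) (v : Fin n → F) :
      ((h⁻¹ : GL (Fin n) F) : Matrix (Fin n) (Fin n) F) *ᵥ ((h : Matrix (Fin n) (Fin n) F) *ᵥ v) = v := by
    rw [mulVec_mulVec, ← Units.val_mul, inv_mul_cancel, Units.val_one, one_mulVec]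

/-- The relative position of two coordinate flags after moving one by `h`. -/
noncomputable def relPos (α β : Fin n → ℕ) (h : GL (Fin n) F) (i j : ℕ) : ℕ :=
  Module.finrank F ↥(Below F n (psum α i) ⊓ (Below F n (psum β j)).map (h : Matrix (Fin n) (Fin n) F).mulVecLin)

theorem finrank_supported (S : Finset (Fin n)) (W : Submodule F (Fin n → F))
    (hW : ∀ v, v ∈ W ↔ ∀ i, i ∉ S → v i = 0) : Module.finrank F W = S.card := by
  classical
  have e : W ≃ₗ[F] ({i // i ∈ S} → F) :=
    { toFun := fun v i => (v : Fin n → F) i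
      map_add' := fun v w => rfl
      map_smul' := fun c v => rfl
      invFun := fun f => ⟨fun i => if h : i ∈ S then f ⟨i, h⟩ else 0, (hW _).2 fun i hi => dif_neg hi⟩
      left_inv := fun v => Subtype.ext (funext fun i => by
        show dite _ _ _ = _
        split_ifs with h
        · rfl
        · exact ((hW _).1 v.2 i h).symm)
      right_inv := fun f => funext fun i => dif_pos i.2 }
  rw [e.finrank_eq, Module.finrank_fintype_fun_eq_card, Fintype.card_coe]

theorem relPos_perm {α β : Fin n → ℕ} {i j : ℕ} (hi : i ≤ n) (hj : j ≤ n) (w : Equiv.Perm (Fin n)) :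
    relPos α β (permGL w : GL (Fin n) F) i j =
      (univ.filter fun l => Cfsg.compLabel β l < j ∧ Cfsg.compLabel α (w l) < i).card := by
  classical
  unfold relPos
  rw [finrank_supported (univ.filter fun r : Fin n => r.val < psum α i ∧ (w.symm r).val < psum β j)]
  · refine Finset.card_bij' (fun r _ => w.symm r) (fun l _ => w l) ?_ ?_ (by simp) (by simp)
    · intro r hr
      simp only [mem_filter, mem_univ, true_and] at hr ⊢
      rw [Equiv.apply_symm_apply, compLabel_lt_iff β hj, compLabel_lt_iff α hi]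
      exact ⟨hr.2, hr.1⟩
    · intro l hl
      simp only [mem_filter, mem_univ, true_and] at hl ⊢
      rw [Equiv.symm_apply_apply, ← compLabel_lt_iff β hj, ← compLabel_lt_iff α hi]
      exact ⟨hl.2, hl.1⟩
  · intro v
    rw [Submodule.mem_inf, Submodule.mem_map]
    constructor
    · rintro ⟨h1, x, hx, rfl⟩ r hr
      simp only [mem_filter, mem_univ, true_and, not_and_or, not_lt] at hr
      rcases hr with hr | hr
      · exact h1 r hr
      · show (permGL w : GL (Fin n) F).1 *ᵥ x |> fun f => f r = 0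
        rw [permGL_mulVec]
        exact hx _ hr
    · intro hv
      refine ⟨fun r hr => hv r (by simp; omega), v ∘ w, fun l hl => hv (w l) (by simp; omega), ?_⟩
      show (permGL w : GL (Fin n) F).1 *ᵥ (v ∘ w) = v
      rw [permGL_mulVec]
      funext r
      simp

theorem relPos_mul {α β : Fin n → ℕ} (hα : ∑ i, α i = n) (hβ : ∑ i, β i = n) {i j : ℕ}
    (hi : i ≤ n) (hj : j ≤ n) {a b : GL (Fin n) F} (ha : a ∈ Cfsg.parabolicGL n F α)
    (hb : b ∈ Cfsg.parabolicGL n F β) (h : GL (Fin n) F) :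
    relPos α β (a * h * b) i j = relPos α β h i j := by
  have hcancel : ∀ (p : GL (Fin n) F) (v : Fin n → F),
      (p : Matrix (Fin n) (Fin n) F) *ᵥ (((p⁻¹ : GL (Fin n) F) : Matrix (Fin n) (Fin n) F) *ᵥ v) = v :=
    fun p v => by rw [mulVec_mulVec, ← Units.val_mul, mul_inv_cancel, Units.val_one, one_mulVec]
  have hinj : ∀ p : GL (Fin n) F, Function.Injective (p : Matrix (Fin n) (Fin n) F).mulVecLin := fun p =>
    Matrix.mulVec_injective_iff_isUnit.2 p.isUnit
  have hfixed : ∀ (γ : Fin n → ℕ), ∑ l, γ l = n → ∀ p ∈ Cfsg.parabolicGL n F γ, ∀ k ≤ n,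
      (Below F n (psum γ k)).map (p : Matrix (Fin n) (Fin n) F).mulVecLin = Below F n (psum γ k) := by
    intro γ hγ p hp k hk
    refine le_antisymm ?_ fun v hv => ?_
    · rintro _ ⟨v, hv, rfl⟩
      exact (mem_parabolic_iff γ hγ p).1 hp k hk v hv
    · exact ⟨_, (mem_parabolic_iff γ hγ _).1 ((Cfsg.parabolicGL n F γ).inv_mem hp) k hk v hv, hcancel p v⟩
  unfold relPos
  have hmap : (Below F n (psum β j)).map ((a * h * b : GL (Fin n) F) : Matrix (Fin n) (Fin n) F).mulVecLin =
      ((Below F n (psum β j)).map (h : Matrix (Fin n) (Fin n) F).mulVecLin).map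
        (a : Matrix (Fin n) (Fin n) F).mulVecLin := by
    rw [Units.val_mul, Units.val_mul, Matrix.mulVecLin_mul, Matrix.mulVecLin_mul, Submodule.map_comp,
      hfixed β hβ b hb j hj, Submodule.map_comp]
  conv_lhs => rw [hmap, ← hfixed α hα a ha i hi, ← Submodule.map_inf _ (hinj a)]
  exact ((Submodule.equivMapOfInjective _ (hinj a) _).finrank_eq).symm

theorem cellCount_of_relPos {α β : Fin n → ℕ} (hα : ∑ i, α i = n) (hβ : ∑ i, β i = n)
    (w w' : Equiv.Perm (Fin n))
    (h : ∀ i j, i ≤ n → j ≤ n → relPos α β (permGL w : GL (Fin n) F) i j = relPos α β (permGL w' : GL (Fin n) F) i j)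
    (i j : Fin n) : cellCount (label α hα) (label β hβ) w i j = cellCount (label α hα) (label β hβ) w' i j := by
  classical
  have key : ∀ x : Equiv.Perm (Fin n),
      relPos α β (permGL x : GL (Fin n) F) (i.val + 1) (j.val + 1) + relPos α β (permGL x : GL (Fin n) F) i.val j.val =
      relPos α β (permGL x : GL (Fin n) F) i.val (j.val + 1) + relPos α β (permGL x : GL (Fin n) F) (i.val + 1) j.val +
        cellCount (label α hα) (label β hβ) x i j := by
    intro x
    rw [relPos_perm i.isLt j.isLt, relPos_perm i.isLt.le j.isLt.le, relPos_perm i.isLt.le j.isLt,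
      relPos_perm i.isLt j.isLt.le]
    unfold cellCount
    simp only [card_filter, ← sum_add_distrib, label, Fin.ext_iff]
    refine sum_congr rfl fun l _ => ?_
    split_ifs <;> omega
  have h1 := key w
  have h2 := key w'
  have a1 := h (i.val + 1) (j.val + 1) i.isLt j.isLt
  have a2 := h i.val j.val i.isLt.le j.isLt.le
  have a3 := h i.val (j.val + 1) i.isLt.le j.isLt
  have a4 := h (i.val + 1) j.val i.isLt j.isLt.le
  omega

theorem parabolic_pair [Fintype F] [DecidableEq F] {α β : Fin n → ℕ} (hα : ∑ i, α i = n) (hβ : ∑ i, β i = n) :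
    ∑ g : GL (Fin n) F, Cfsg.fixedPointCharacter (Cfsg.parabolicGL n F α) g *
        Cfsg.fixedPointCharacter (Cfsg.parabolicGL n F β) g
      = (Nat.card (Pieri.Margins α β) : ℂ) * (Nat.card (GL (Fin n) F) : ℂ) := by
  classical
  choose Φ hΦ using exists_perm_cell hα hβ
  refine orbit_count _ _ (fun M => (permGL (Φ M) : GL (Fin n) F)) ?_ ?_
  · intro g
    obtain ⟨b₁, b₂, w, h1, h2, hg⟩ := bruhat g
    let M : Pieri.Margins α β := ⟨_, cellCount_margins hα hβ w⟩
    obtain ⟨u, v, hu, hv, hw⟩ := exists_uwv (L := label α hα) (L' := label β hβ) (w := Φ M) (w' := w)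
      (fun i j => hΦ M i j)
    refine ⟨M, b₁ * permGL u, mul_mem (triangular_mem α h1) (permGL_mem hα hu),
      permGL v * b₂⁻¹, mul_mem (permGL_mem hβ hv) (inv_mem (triangular_mem β h2)), ?_⟩
    rw [eq_mul_inv_iff_mul_eq.2 hg, hw, permGL_mul, permGL_mul]
    simp only [mul_assoc]
  · intro t t' a ha b hb he
    refine Subtype.ext (funext fun i => funext fun j => ?_)
    rw [← hΦ t i j, ← hΦ t' i j]
    refine cellCount_of_relPos (F := F) hα hβ _ _ (fun i' j' hi' hj' => ?_) i j
    rw [he, relPos_mul hα hβ hi' hj' ha hb]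

end CfsgLib.GLFlag
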