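import Cfsg.Prelude.Def_LinearParabolics
import Mathlib

/-!
Block labels of a composition, and the standard parabolic subgroup as a flag stabiliser.
-/

set_option autoImplicit false

namespace CfsgLib.GLFlag

open Finset

variable {n : ℕ}

/-- The sum of the parts of index below `k`. -/
def psum (μ : Fin n → ℕ) (k : ℕ) : ℕ := ∑ j ∈ univ.filter (fun j : Fin n => j.val < k), μ j

theorem psum_zero (μ : Fin n → ℕ) : psum μ 0 = 0 := by simp [psum]

theorem psum_top (μ : Fin n → ℕ) : psum μ n = ∑ i, μ i := by simp [psum]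

theorem psum_mono (μ : Fin n → ℕ) {a b : ℕ} (h : a ≤ b) : psum μ a ≤ psum μ b :=
  Finset.sum_le_sum_of_subset fun j hj => by
    simp only [mem_filter, mem_univ, true_and] at hj ⊢
    omega

theorem psum_succ (μ : Fin n → ℕ) (j : Fin n) : psum μ (j.val + 1) = psum μ j.val + μ j := by
  unfold psum
  rw [show (univ.filter fun i : Fin n => i.val < j.val + 1) = insert j (univ.filter fun i : Fin n => i.val < j.val) by
    ext i; simp only [mem_filter, mem_univ, true_and, mem_insert, Fin.ext_iff]; omega]
  rw [sum_insert (by simp), add_comm]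

theorem psum_le (μ : Fin n → ℕ) (k : ℕ) : psum μ k ≤ ∑ i, μ i :=
  Finset.sum_le_univ_sum_of_nonneg fun _ => Nat.zero_le _

theorem compLabel_lt_iff (μ : Fin n → ℕ) {k : ℕ} (hk : k ≤ n) (i : Fin n) :
    Cfsg.compLabel μ i < k ↔ i.val < psum μ k := by
  have hS : ∀ j : Fin n, (∑ l ∈ univ.filter (fun l : Fin n => l ≤ j), μ l) = psum μ (j.val + 1) := by
    intro j
    refine Finset.sum_congr (Finset.filter_congr fun l _ => ?_) fun _ _ => rfl
    rw [Fin.le_def]; omega
  constructor
  · intro h
    by_contra hc
    push Not at hc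
    have hsub : (univ.filter fun j : Fin n => j.val < k) ⊆
        univ.filter fun j : Fin n => (∑ l ∈ univ.filter (fun l : Fin n => l ≤ j), μ l) ≤ i.val := by
      intro j hj
      simp only [mem_filter, mem_univ, true_and] at hj ⊢
      rw [hS]
      exact (psum_mono μ (by omega)).trans hc
    have := Finset.card_le_card hsub
    rw [Fin.card_filter_val_lt, min_eq_right hk] at this
    exact absurd this (not_le.2 h)
  · intro h
    have hk0 : 0 < k := by
      rcases Nat.eq_zero_or_pos k with rfl | h'
      · rw [psum_zero] at h; omega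
      · exact h'
    have hsub : (univ.filter fun j : Fin n => (∑ l ∈ univ.filter (fun l : Fin n => l ≤ j), μ l) ≤ i.val) ⊆
        univ.filter fun j : Fin n => j.val < k - 1 := by
      intro j hj
      simp only [mem_filter, mem_univ, true_and] at hj ⊢
      rw [hS] at hj
      by_contra hc
      exact absurd ((psum_mono μ (show k ≤ j.val + 1 by omega)).trans hj) (not_le.2 h)
    have := Finset.card_le_card hsub
    rw [Fin.card_filter_val_lt] at this
    unfold Cfsg.compLabel
    omega

theorem compLabel_lt (μ : Fin n → ℕ) (hμ : ∑ i, μ i = n) (i : Fin n) : Cfsg.compLabel μ i < n :=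
  (compLabel_lt_iff μ le_rfl i).2 (by rw [psum_top, hμ]; exact i.isLt)

variable {F : Type*} [Field F]

/-- The coordinate flag: vectors supported below `s`. -/
def Below (F : Type*) [Field F] (n s : ℕ) : Submodule F (Fin n → F) where
  carrier := {v | ∀ i : Fin n, s ≤ i.val → v i = 0}
  add_mem' := fun ha hb i hi => by simp [ha i hi, hb i hi]
  zero_mem' := fun _ _ => rfl
  smul_mem' := fun c _ ha i hi => by simp [ha i hi]

theorem mem_parabolic_iff (μ : Fin n → ℕ) (hμ : ∑ i, μ i = n) (p : GL (Fin n) F) :
    p ∈ Cfsg.parabolicGL n F μ ↔ ∀ k ≤ n, ∀ v ∈ Below F n (psum μ k),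
      Matrix.mulVec (p : Matrix (Fin n) (Fin n) F) v ∈ Below F n (psum μ k) := by
  change (p : Matrix (Fin n) (Fin n) F).BlockTriangular (Cfsg.compLabel μ) ↔ _
  constructor
  · intro h k hk v hv i hi
    show ∑ j, (p : Matrix (Fin n) (Fin n) F) i j * v j = 0
    refine Finset.sum_eq_zero fun j _ => ?_
    by_cases hj : psum μ k ≤ j.val
    · rw [hv j hj, mul_zero]
    · have hj' := (compLabel_lt_iff μ hk j).2 (not_le.1 hj)
      have hi' := mt (compLabel_lt_iff μ hk i).1 (not_lt.2 hi)
      rw [h (show Cfsg.compLabel μ j < Cfsg.compLabel μ i by omega), zero_mul]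
  · intro h i j hij
    have hk : Cfsg.compLabel μ j + 1 ≤ n := compLabel_lt μ hμ j
    have hj := (compLabel_lt_iff μ hk j).1 (Nat.lt_succ_self _)
    have hi : psum μ (Cfsg.compLabel μ j + 1) ≤ i.val :=
      not_lt.1 fun hc => absurd ((compLabel_lt_iff μ hk i).2 hc) (by omega)
    have := h _ hk (Pi.single j 1) (fun l hl => Pi.single_eq_of_ne (fun e => by subst e; omega) 1) i hi
    simpa [Matrix.mulVec_single] using this

end CfsgLib.GLFlag
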