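import Cfsg.Agent.GLFlag.CompLabel

/-!
The order of a standard parabolic subgroup and the number of flags of a given type.
-/

set_option autoImplicit false

namespace CfsgLib.GLFlag

open Finset Matrix

variable {F : Type*} [Field F] {n : ℕ}

/-- The label as an element of `Fin n`. -/
def label (μ : Fin n → ℕ) (hμ : ∑ i, μ i = n) (i : Fin n) : Fin n :=
  ⟨Cfsg.compLabel μ i, compLabel_lt μ hμ i⟩

theorem card_label_fiber (μ : Fin n → ℕ) (hμ : ∑ i, μ i = n) (a : Fin n) :
    Fintype.card {i // label μ hμ i = a} = μ a := by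
  rw [Fintype.card_subtype]
  have h : (univ.filter fun i => label μ hμ i = a) =
      (univ.filter fun i : Fin n => i.val < psum μ (a.val + 1)) \ univ.filter fun i : Fin n => i.val < psum μ a.val := by
    ext i
    simp only [mem_filter, mem_univ, true_and, mem_sdiff]
    rw [← compLabel_lt_iff μ a.isLt, ← compLabel_lt_iff μ a.isLt.le, label, Fin.ext_iff]
    show Cfsg.compLabel μ i = a.val ↔ Cfsg.compLabel μ i < a.val.succ ∧ ¬ Cfsg.compLabel μ i < a.val
    omega
  rw [h, card_sdiff_of_subset, Fin.card_filter_val_lt, Fin.card_filter_val_lt,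
    min_eq_right ((psum_le μ _).trans hμ.le), min_eq_right ((psum_le μ _).trans hμ.le), psum_succ]
  · omega
  · intro i
    simp only [mem_filter, mem_univ, true_and]
    exact fun hi => lt_of_lt_of_le hi (psum_mono μ (Nat.le_succ _))

theorem triangular_iff (μ : Fin n → ℕ) (hμ : ∑ i, μ i = n) (M : Matrix (Fin n) (Fin n) F) :
    M.BlockTriangular (Cfsg.compLabel μ) ↔ M.BlockTriangular (label μ hμ) :=
  ⟨fun h i j hij => h (show Cfsg.compLabel μ j < Cfsg.compLabel μ i from hij),
    fun h i j hij => h (show label μ hμ j < label μ hμ i from hij)⟩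

/-- The matrix with given diagonal blocks and given entries above them. -/
def assemble (L : Fin n → Fin n) (B : ∀ a : Fin n, Matrix {i // L i = a} {i // L i = a} F)
    (c : {p : Fin n × Fin n // L p.1 < L p.2} → F) : Matrix (Fin n) (Fin n) F :=
  Matrix.of fun i j =>
    if h : L j = L i then B (L i) ⟨i, rfl⟩ ⟨j, h⟩ else if h' : L i < L j then c ⟨(i, j), h'⟩ else 0

theorem assemble_triangular (L : Fin n → Fin n) (B : ∀ a : Fin n, Matrix {i // L i = a} {i // L i = a} F)
    (c : {p : Fin n × Fin n // L p.1 < L p.2} → F) : (assemble L B c).BlockTriangular L := by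
  intro i j hij
  simp [assemble, hij.ne, not_lt.2 hij.le]

theorem assemble_block (L : Fin n → Fin n) (B : ∀ a : Fin n, Matrix {i // L i = a} {i // L i = a} F)
    (c : {p : Fin n × Fin n // L p.1 < L p.2} → F) (a : Fin n) :
    (assemble L B c).toSquareBlock L a = B a := by
  ext ⟨i, hi⟩ ⟨j, hj⟩
  subst hi
  simp [assemble, Matrix.toSquareBlock_def, hj]

theorem card_parabolic [Fintype F] (μ : Fin n → ℕ) (hμ : ∑ i, μ i = n) :
    Nat.card (Cfsg.parabolicGL n F μ) = (∏ a : Fin n, Nat.card (GL (Fin (μ a)) F)) *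
      Fintype.card F ^ Fintype.card {p : Fin n × Fin n // label μ hμ p.1 < label μ hμ p.2} := by
  classical
  set L := label μ hμ
  have mem : ∀ g : GL (Fin n) F, g ∈ Cfsg.parabolicGL n F μ ↔
      (g : Matrix (Fin n) (Fin n) F).BlockTriangular L := fun g => triangular_iff μ hμ _
  have hblock : ∀ g : Cfsg.parabolicGL n F μ, ∀ a,
      IsUnit ((((g : GL (Fin n) F) : Matrix (Fin n) (Fin n) F)).toSquareBlock L a) := by
    intro g a
    rw [Matrix.isUnit_iff_isUnit_det, isUnit_iff_ne_zero]
    have hd : ((g : GL (Fin n) F) : Matrix (Fin n) (Fin n) F).det ≠ 0 :=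
      ((Matrix.isUnit_iff_isUnit_det _).1 (g : GL (Fin n) F).isUnit).ne_zero
    rw [((mem _).1 g.2).det_fintype] at hd
    exact prod_ne_zero_iff.1 hd a (mem_univ a)
  have hass : ∀ x : (∀ a : Fin n, GL {i // L i = a} F) × ({p : Fin n × Fin n // L p.1 < L p.2} → F),
      IsUnit (assemble L (fun a => (x.1 a : Matrix _ _ F)) x.2) := by
    intro x
    rw [Matrix.isUnit_iff_isUnit_det, (assemble_triangular L _ _).det_fintype, isUnit_iff_ne_zero]
    refine prod_ne_zero_iff.2 fun a _ => ?_
    rw [assemble_block]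
    exact ((Matrix.isUnit_iff_isUnit_det _).1 (x.1 a).isUnit).ne_zero
  let e : Cfsg.parabolicGL n F μ ≃
      (∀ a : Fin n, GL {i // L i = a} F) × ({p : Fin n × Fin n // L p.1 < L p.2} → F) :=
    { toFun := fun g => (fun a => (hblock g a).unit,
        fun p => ((g : GL (Fin n) F) : Matrix (Fin n) (Fin n) F) p.1.1 p.1.2)
      invFun := fun x => ⟨(hass x).unit, (mem _).2 (by rw [IsUnit.unit_spec]; exact assemble_triangular L _ _)⟩
      left_inv := fun g => by
        refine Subtype.ext (Units.ext (Matrix.ext fun i j => ?_))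
        simp only [IsUnit.unit_spec]
        simp only [assemble, Matrix.of_apply, Matrix.toSquareBlock_def]
        split_ifs with h h'
        · rfl
        · rfl
        · exact ((mem _).1 g.2 (lt_of_le_of_ne (not_lt.1 h') h)).symm
      right_inv := fun x => by
        refine Prod.ext (funext fun a => Units.ext ?_) (funext fun p => ?_)
        · simp only [IsUnit.unit_spec]
          exact assemble_block L _ _ a
        · obtain ⟨⟨i, j⟩, hp⟩ := p
          have h1 : L i < L j := hp
          simp [assemble, h1.ne', h1] }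
  rw [Nat.card_congr e, Nat.card_prod, Nat.card_pi]
  congr 1
  · refine prod_congr rfl fun a _ => ?_
    exact Nat.card_congr (Units.mapEquiv (Matrix.reindexAlgEquiv F F
      (Fintype.equivFinOfCardEq (card_label_fiber μ hμ a))).toMulEquiv).toEquiv
  · rw [Nat.card_eq_fintype_card, Fintype.card_fun]

theorem card_GL_eq [Fintype F] (m : ℕ) :
    Nat.card (GL (Fin m) F) = Fintype.card F ^ (m.choose 2) * (Fintype.card F - 1) ^ m *
      ∏ j ∈ range m, ∑ l ∈ range (j + 1), Fintype.card F ^ l := by
  rw [Matrix.card_GL_field, Fin.prod_univ_eq_prod_range (fun i => Fintype.card F ^ m - Fintype.card F ^ i) m]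
  set q := Fintype.card F
  have hq : 1 ≤ q := Fintype.card_pos
  have h1 : ∀ i ∈ range m, q ^ m - q ^ i = q ^ i * ((q - 1) * ∑ l ∈ range (m - i), q ^ l) := by
    intro i hi
    have hgeom := geom_sum_mul_of_one_le hq (m - i)
    rw [mul_comm (q - 1), hgeom, Nat.mul_sub, mul_one, ← pow_add]
    congr 2
    have := mem_range.1 hi
    omega
  rw [prod_congr rfl h1, prod_mul_distrib, prod_mul_distrib, prod_pow_eq_pow_sum, prod_const,
    card_range, ← mul_assoc, Finset.sum_range_id, Nat.choose_two_right]
  congr 1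
  rw [← Finset.prod_range_reflect (fun j => ∑ l ∈ range (j + 1), q ^ l) m]
  refine prod_congr rfl fun i hi => ?_
  congr 2
  have := mem_range.1 hi
  omega

theorem pairs_count (μ : Fin n → ℕ) (hμ : ∑ i, μ i = n) :
    n.choose 2 = Fintype.card {p : Fin n × Fin n // label μ hμ p.1 < label μ hμ p.2} +
      ∑ a, (μ a).choose 2 := by
  classical
  set L := label μ hμ
  have hsum : 2 * Fintype.card {p : Fin n × Fin n // L p.1 < L p.2} + ∑ a, μ a * μ a = n * n := by
    have h1 := Finset.card_filter_add_card_filter_not (s := (univ : Finset (Fin n × Fin n))) (fun p => L p.1 < L p.2)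
    have h2 : ((univ : Finset (Fin n × Fin n)).filter fun p => ¬ L p.1 < L p.2) =
        (univ.filter fun p => L p.2 < L p.1) ∪ univ.filter fun p => L p.1 = L p.2 := by
      ext p
      simp only [mem_filter, mem_univ, true_and, mem_union]
      omega
    have h3 : ((univ : Finset (Fin n × Fin n)).filter fun p => L p.2 < L p.1).card =
        ((univ : Finset (Fin n × Fin n)).filter fun p => L p.1 < L p.2).card := by
      refine Finset.card_bij' (fun p _ => p.swap) (fun p _ => p.swap) ?_ ?_ ?_ ?_ <;> simp
    have h4 : ((univ : Finset (Fin n × Fin n)).filter fun p => L p.1 = L p.2).card = ∑ a, μ a * μ a := by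
      rw [Finset.card_eq_sum_card_fiberwise (f := fun p => L p.1) (t := univ) (fun _ _ => mem_univ _)]
      refine sum_congr rfl fun a _ => ?_
      rw [← card_label_fiber μ hμ a, Fintype.card_subtype, ← Finset.card_product]
      congr 1
      ext p
      simp only [mem_filter, mem_univ, true_and, mem_product]
      constructor
      · rintro ⟨h, h'⟩; exact ⟨h', h.symm.trans h'⟩
      · rintro ⟨h, h'⟩; exact ⟨h.trans h'.symm, h⟩
    rw [h2, card_union_of_disjoint (disjoint_filter.2 fun p _ h h' => h.ne h'.symm), h3, h4,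
      Finset.card_univ, Fintype.card_prod, Fintype.card_fin] at h1
    rw [Fintype.card_subtype]
    omega
  have hc : ∀ m : ℕ, 2 * m.choose 2 + m = m * m := by
    intro m
    induction m with
    | zero => rfl
    | succ m ih =>
      rw [Nat.choose_succ_succ', Nat.choose_one_right]
      ring_nf
      ring_nf at ih
      omega
  have hh : ∑ a, (2 * (μ a).choose 2 + μ a) = ∑ a, μ a * μ a := sum_congr rfl fun a _ => hc _
  rw [sum_add_distrib, ← mul_sum, hμ] at hh
  have := hc n
  omega

theorem card_flags [Fintype F] (μ : Fin n → ℕ) (hμ : ∑ i, μ i = n) :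
    Nat.card (GL (Fin n) F ⧸ Cfsg.parabolicGL n F μ) *
      ∏ i : Fin n, ∏ j ∈ range (μ i), ∑ l ∈ range (j + 1), Fintype.card F ^ l =
      ∏ j ∈ range n, ∑ l ∈ range (j + 1), Fintype.card F ^ l := by
  have h := Subgroup.card_eq_card_quotient_mul_card_subgroup (Cfsg.parabolicGL n F μ)
  rw [card_parabolic μ hμ, card_GL_eq n, pairs_count μ hμ] at h
  simp only [card_GL_eq, prod_mul_distrib, prod_pow_eq_pow_sum, hμ] at h
  rw [pow_add] at h
  set q := Fintype.card F
  have hq : 0 < q := Fintype.card_pos
  have hq1 : 0 < q - 1 := by have := Fintype.one_lt_card (α := F); omega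
  have hne : 0 < q ^ Fintype.card {p : Fin n × Fin n // label μ hμ p.1 < label μ hμ p.2} *
      q ^ (∑ a, (μ a).choose 2) * (q - 1) ^ n := by positivity
  refine Nat.eq_of_mul_eq_mul_left hne ?_
  rw [h]
  ring

end CfsgLib.GLFlag
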